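import Cfsg.Agent.TwoClassClosed.Core
import Mathlib.GroupTheory.QuotientGroup.Basic

/-!
The centralizers of the singular elements of `K`.

`N` is a set of rigid elements of `K` (the nonsingular vectors).  A subgroup `U` of `K` avoiding `N`
is totally singular.  If in `L ⊓ C(U)` two elements of `N` stay unfused modulo `U` for all those
`U ≠ 1`, then `C(U) ≤ L`, by downward induction on `U` with `eq_top_of_two` in `C(U) / U`.
Hence `L = ⊤`.
-/

set_option autoImplicit false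

namespace Cfsg.Agent.TwoClassClosed

open Subgroup

variable {M : Type*} [Group M] [Finite M] {L K : Subgroup M} {N : Set M}

/-- The step from the overgroups of `U` to `U`. -/
theorem centralizer_le_step (hKL : K ≤ L) (hnorm : ∀ l ∈ L, ∀ k ∈ K, l * k * l⁻¹ ∈ K)
    (hsq : ∀ k ∈ K, k * k = 1) (hNK : ∀ x ∈ N, x ∈ K) (hN : ∀ x ∈ N, Rigid L x)
    {U : Subgroup M} (hUK : U ≤ K)
    (hbig : ∀ U' : Subgroup M, U < U' → U' ≤ K → (∀ u ∈ U', u ∉ N) →
      centralizer (U' : Set M) ≤ L)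
    {x v : M} (hx : x ∈ N) (hv : v ∈ N)
    (hxv : ∀ l ∈ L, l ∈ centralizer (U : Set M) → l * x * l⁻¹ * v⁻¹ ∉ U) :
    centralizer (U : Set M) ≤ L := by
  classical
  have hKcomm : ∀ a ∈ K, ∀ b ∈ K, Commute a b := fun a ha b hb => by
    have h1 := hsq _ (K.mul_mem ha hb)
    have ha' : a⁻¹ = a := inv_eq_of_mul_eq_one_right (hsq a ha)
    have hb' : b⁻¹ = b := inv_eq_of_mul_eq_one_right (hsq b hb)
    calc a * b = (a * b)⁻¹ := (inv_eq_of_mul_eq_one_right h1).symm
      _ = b * a := by rw [mul_inv_rev, ha', hb']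
  have hKD : K ≤ centralizer (U : Set M) := fun k hk u hu => (hKcomm u (hUK hu) k hk).eq
  obtain ⟨D, hD⟩ : ∃ D, centralizer (U : Set M) = D := ⟨_, rfl⟩
  rw [hD] at hKD hxv ⊢
  have hUD : U ≤ D := hUK.trans hKD
  have hcent : ∀ g ∈ D, ∀ u ∈ U, Commute g u := fun g hg u hu => by
    rw [← hD] at hg
    exact (mem_centralizer_iff.mp hg u hu).symm
  have : (U.subgroupOf D).Normal := ⟨fun n hn g => by
    rw [mem_subgroupOf] at hn ⊢
    rw [coe_mul, coe_mul, coe_inv, (hcent _ g.2 _ hn).eq, mul_inv_cancel_right]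
    exact hn⟩
  obtain ⟨π, hπs, hπ⟩ : ∃ π : D →* D ⧸ U.subgroupOf D, Function.Surjective π ∧
      ∀ a b : D, π a = π b ↔ (a : M)⁻¹ * b ∈ U :=
    ⟨QuotientGroup.mk' _, QuotientGroup.mk'_surjective _, fun a b => by
      rw [QuotientGroup.mk'_eq_mk']
      constructor
      · rintro ⟨z, hz, rfl⟩
        simpa [mem_subgroupOf] using hz
      · intro h
        exact ⟨a⁻¹ * b, by simpa [mem_subgroupOf] using h, by simp⟩⟩
  have hLmem : ∀ a : D, π a ∈ (L.subgroupOf D).map π → (a : M) ∈ L := by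
    rintro a ⟨b, hb, hab⟩
    have h1 := hKL (hUK ((hπ b a).mp hab))
    simpa using L.mul_mem (mem_subgroupOf.mp hb) h1
  have hKmem : ∀ a : D, π a ∈ (K.subgroupOf D).map π → (a : M) ∈ K := by
    rintro a ⟨b, hb, hab⟩
    simpa using K.mul_mem (mem_subgroupOf.mp hb) (hUK ((hπ b a).mp hab))
  have hNr : ∀ n (hn : n ∈ N), Rigid ((L.subgroupOf D).map π) (π ⟨n, hKD (hNK n hn)⟩) := by
    intro n hn g' hg'
    obtain ⟨g, rfl⟩ := hπs g'
    rw [← map_inv, ← map_mul, ← map_mul] at hg'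
    exact ⟨g, mem_subgroupOf.mpr (hN n hn g (by simpa using hLmem _ hg')), rfl⟩
  have key := eq_top_of_two (L := (L.subgroupOf D).map π) (K := (K.subgroupOf D).map π)
    (map_mono fun a ha => mem_subgroupOf.mpr (hKL (mem_subgroupOf.mp ha))) ?_ ?_ ?_
    (a := π ⟨x, hKD (hNK x hx)⟩) (b := π ⟨v, hKD (hNK v hv)⟩)
    ⟨_, mem_subgroupOf.mpr (hNK x hx), rfl⟩ ⟨_, mem_subgroupOf.mpr (hNK v hv), rfl⟩
    (hNr x hx) (hNr v hv) ?_
  · intro g hg
    exact hLmem ⟨g, hg⟩ (by rw [key]; trivial)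
  · rintro _ ⟨l, hl, rfl⟩ _ ⟨k, hk, rfl⟩
    exact ⟨l * k * l⁻¹, mem_subgroupOf.mpr (by
      simpa using hnorm _ (mem_subgroupOf.mp hl) _ (mem_subgroupOf.mp hk)), by simp⟩
  · rintro _ ⟨k, hk, rfl⟩
    rw [← map_mul, ← map_one π]
    exact congrArg π (Subtype.ext (by simpa using hsq _ (mem_subgroupOf.mp hk)))
  · rintro _ ⟨k, hk, rfl⟩ hk1 g' hg'
    obtain ⟨g, rfl⟩ := hπs g'
    refine ⟨g, mem_subgroupOf.mpr ?_, rfl⟩
    have hkK : (k : M) ∈ K := mem_subgroupOf.mp hk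
    have hkU : (k : M) ∉ U := fun h => hk1 (by
      rw [← map_one π, hπ]
      simpa using U.inv_mem h)
    rw [Commute, SemiconjBy, ← map_mul, ← map_mul, hπ] at hg'
    simp only [coe_mul, mul_inv_rev] at hg'
    -- `g` conjugates `k` into `U k`
    obtain ⟨z, hz⟩ : ∃ z, (k : M)⁻¹ * (g : M)⁻¹ * ((k : M) * g) = z := ⟨_, rfl⟩
    rw [hz] at hg'
    have hgk : ∃ u ∈ U, (g : M) * k * (g : M)⁻¹ = u * k := by
      refine ⟨z⁻¹, U.inv_mem hg', ?_⟩
      calc (g : M) * k * (g : M)⁻¹ = (k : M) * ((g : M) * z⁻¹ * (g : M)⁻¹) := by rw [← hz]; group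
        _ = (k : M) * z⁻¹ := by rw [(hcent _ g.2 _ (U.inv_mem hg')).eq, mul_inv_cancel_right]
        _ = z⁻¹ * k := (hKcomm _ hkK _ (hUK (U.inv_mem hg'))).eq
    obtain ⟨u, hu, hgk⟩ := hgk
    have hgkK : (g : M) * k * (g : M)⁻¹ ∈ K := hgk ▸ K.mul_mem (hUK hu) hkK
    have hkd : ∀ u ∈ U, Commute (k : M) u := fun u hu => hKcomm _ hkK _ (hUK hu)
    obtain ⟨U', hU'⟩ : ∃ U', extendBy U (k : M) (hsq _ hkK) hkd = U' := ⟨_, rfl⟩
    by_cases hex : ∃ n ∈ U', n ∈ N
    · obtain ⟨n, hn, hnN⟩ := hex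
      refine hN n hnN g ?_
      refine extendBy_induction (S := fun n => (g : M) * n * (g : M)⁻¹ ∈ L) ?_ ?_ (hU'.symm ▸ hn)
      · intro p hp
        rw [(hcent _ g.2 p hp).eq, mul_inv_cancel_right]
        exact hKL (hUK hp)
      · intro p hp
        rw [show (g : M) * (p * k) * (g : M)⁻¹
          = ((g : M) * p * (g : M)⁻¹) * ((g : M) * k * (g : M)⁻¹) by group,
          (hcent _ g.2 p hp).eq, mul_inv_cancel_right]
        exact hKL (K.mul_mem (hUK hp) hgkK)
    · have hlt : U < U' := lt_of_le_of_ne (hU' ▸ le_extendBy)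
        (fun e => hkU (by rw [e, ← hU']; exact self_mem_extendBy))
      have hC : centralizer (U' : Set M) ≤ L := by
        refine hbig U' hlt (fun n hn => ?_) (fun n hn hnN => hex ⟨n, hn, hnN⟩)
        exact extendBy_induction (S := fun n => n ∈ K) hUK
          (fun p hp => K.mul_mem (hUK hp) hkK) (hU'.symm ▸ hn)
      refine hN x hx g (hC (mem_centralizer_iff.mpr fun n hn => ?_))
      have hxk : Commute ((g : M) * x * (g : M)⁻¹) ((g : M) * k * (g : M)⁻¹) := by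
        simpa using (hKcomm x (hNK x hx) k hkK).map (MulAut.conj (g : M)).toMonoidHom
      have hxu : ∀ p ∈ U, Commute ((g : M) * x * (g : M)⁻¹) p := fun p hp => by
        have := (hKcomm x (hNK x hx) p (hUK hp)).map (MulAut.conj (g : M)).toMonoidHom
        simpa [(hcent _ g.2 p hp).eq] using this
      refine (extendBy_induction (S := fun n => Commute ((g : M) * x * (g : M)⁻¹) n) hxu ?_
        (hU'.symm ▸ hn)).eq.symm
      intro p hp
      refine (hxu p hp).mul_right ?_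
      have h2 := (hxu u hu).inv_right.mul_right hxk
      rwa [hgk, inv_mul_cancel_left] at h2
  · intro g' hg'
    obtain ⟨g, rfl⟩ := hπs g'
    rw [← map_inv, ← map_mul, ← map_mul, hπ] at hg'
    simp only [coe_mul, coe_inv] at hg'
    have hu := U.inv_mem hg'
    rw [mul_inv_rev, inv_inv] at hu
    have hgL : (g : M) ∈ L := by
      refine hN x hx g ?_
      have := L.mul_mem (hKL (hNK v hv)) (L.inv_mem (hKL (hUK hg')))
      simpa [mul_assoc] using this
    refine hxv g hgL g.2 ?_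
    -- `x ↦ v u` and `u` commutes with `v`
    have hc := (hKcomm v (hNK v hv) _ (hUK hu)).eq
    rw [show (g : M) * x * (g : M)⁻¹ * v⁻¹
      = v * (v⁻¹ * ((g : M) * x * (g : M)⁻¹)) * v⁻¹ by group, hc, mul_inv_cancel_right]
    exact hu

/-- **Centralizers of totally singular subgroups.** -/
theorem centralizer_le (hKL : K ≤ L) (hnorm : ∀ l ∈ L, ∀ k ∈ K, l * k * l⁻¹ ∈ K)
    (hsq : ∀ k ∈ K, k * k = 1) (hNK : ∀ x ∈ N, x ∈ K) (hN : ∀ x ∈ N, Rigid L x)
    (hpair : ∀ U : Subgroup M, U ≤ K → U ≠ ⊥ → (∀ u ∈ U, u ∉ N) →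
      ∃ x ∈ N, ∃ v ∈ N, ∀ l ∈ L, l ∈ centralizer (U : Set M) → l * x * l⁻¹ * v⁻¹ ∉ U)
    (U : Subgroup M) (hUK : U ≤ K) (hU : U ≠ ⊥) (hUN : ∀ u ∈ U, u ∉ N) :
    centralizer (U : Set M) ≤ L := by
  induction U using WellFoundedGT.induction with
  | ind U IH =>
    obtain ⟨x, hx, v, hv, hxv⟩ := hpair U hUK hU hUN
    exact centralizer_le_step hKL hnorm hsq hNK hN hUK
      (fun U' hlt hK hN' => IH U' hlt hK (ne_bot_of_le_ne_bot hU hlt.le) hN') hx hv hxv

/-- **Two classes, one of them rigid.** `N` consists of rigid elements of `K`, is invariant under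
`L`, and misses some nontrivial `s ∈ K`; every involution of `L` outside `K` commutes with a rigid
element of `L`. -/
theorem eq_top_of_singular (hKL : K ≤ L) (hnorm : ∀ l ∈ L, ∀ k ∈ K, l * k * l⁻¹ ∈ K)
    (hsq : ∀ k ∈ K, k * k = 1) (hNK : ∀ x ∈ N, x ∈ K) (hN : ∀ x ∈ N, Rigid L x)
    (hNinv : ∀ l ∈ L, ∀ x ∈ N, l * x * l⁻¹ ∈ N)
    (hpair : ∀ U : Subgroup M, U ≤ K → U ≠ ⊥ → (∀ u ∈ U, u ∉ N) →
      ∃ x ∈ N, ∃ v ∈ N, ∀ l ∈ L, l ∈ centralizer (U : Set M) → l * x * l⁻¹ * v⁻¹ ∉ U)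
    (hinvol : ∀ j ∈ L, j * j = 1 → j ∉ K → ∃ e ∈ L, Rigid L e ∧ Commute e j)
    {x : M} (hx : x ∈ N) {s : M} (hs : s ∈ K) (hs1 : s ≠ 1) (hsN : s ∉ N) : L = ⊤ := by
  by_cases h1N : (1 : M) ∈ N
  · exact eq_top_iff.mpr fun g _ => hN 1 h1N g (by simp)
  have hC : ∀ k ∈ K, k ≠ 1 → ∀ g, Commute g k → g ∈ L := by
    intro k hk hk1 g hg
    by_cases hkN : k ∈ N
    · exact (hN k hkN).mem_of_commute (hKL hk) hg
    have hle := centralizer_le hKL hnorm hsq hNK hN hpair
      (extendBy ⊥ k (hsq k hk) fun p hp => by rw [mem_bot.mp hp]; exact Commute.one_right k)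
      ?_ ?_ ?_
    · refine hle (mem_centralizer_iff.mpr fun q hq => ?_)
      refine (extendBy_induction (S := fun q => Commute g q) ?_ ?_ hq).eq.symm
      · intro p hp
        rw [mem_bot.mp hp]; exact Commute.one_right g
      · intro p hp
        rw [mem_bot.mp hp, one_mul]; exact hg
    · intro q hq
      refine extendBy_induction (S := fun q => q ∈ K) ?_ ?_ hq
      · intro p hp
        rw [mem_bot.mp hp]; exact K.one_mem
      · intro p hp
        rw [mem_bot.mp hp, one_mul]; exact hk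
    · intro e
      exact hk1 (mem_bot.mp (e ▸ self_mem_extendBy))
    · intro q hq
      refine extendBy_induction (S := fun q => q ∉ N) ?_ ?_ hq
      · intro p hp
        rw [mem_bot.mp hp]; exact h1N
      · intro p hp
        rw [mem_bot.mp hp, one_mul]; exact hkN
  have hsr : Rigid L s := by
    intro g hg
    by_cases hjK : g * s * g⁻¹ ∈ K
    · refine hN x hx g (hC _ hjK (fun e => hs1 (conj_eq_one_iff.mp e)) _ ?_)
      have hxs : Commute x s := by
        have h1 := hsq _ (K.mul_mem (hNK x hx) hs)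
        calc x * s = (x * s)⁻¹ := (inv_eq_of_mul_eq_one_right h1).symm
          _ = s * x := by rw [mul_inv_rev, inv_eq_of_mul_eq_one_right (hsq x (hNK x hx)),
              inv_eq_of_mul_eq_one_right (hsq s hs)]
      simpa using hxs.map (MulAut.conj g).toMonoidHom
    · obtain ⟨e, heL, he, hej⟩ := hinvol _ hg (by
        rw [show g * s * g⁻¹ * (g * s * g⁻¹) = g * (s * s) * g⁻¹ by group, hsq s hs]; group) hjK
      have h1 : g⁻¹ * e * g ∈ L := hC s hs hs1 _ (by
        have := hej.map (MulAut.conj g⁻¹).toMonoidHom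
        simpa [mul_assoc] using this)
      simpa using L.inv_mem (he g⁻¹ (by simpa using h1))
  refine eq_top_of_two hKL hnorm hsq hC (hNK x hx) hs (hN x hx) hsr fun g hg => ?_
  have hgL : g ∈ L := hN x hx g (hg ▸ hKL hs)
  exact hsN (hg ▸ hNinv g hgL x hx)

end Cfsg.Agent.TwoClassClosed
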