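import Cfsg.Agent.TwoClassClosed.Core
import Mathlib.GroupTheory.QuotientGroup.Basic

/-!
The centralizer of one element `x` of `K`, from the weak closure of `K` at `x`.

If `K` is the only conjugate of itself under `C(x)` inside `L`, then downward induction over the
subgroups `U` of `K` through `x` gives `C(U) ≤ L`, provided this holds for the small `U`, the other
`U` have two classes modulo `U`, and `L` has no elementary abelian group `B` over `U`, large compared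
with `K / U`, all whose elements outside `U` have the same proper fixed subgroup `A` on `K / U`.
-/

set_option autoImplicit false

namespace Cfsg.Agent.TwoClassClosed

open Subgroup

variable {M : Type*} [Group M]

/-- No large group with a common fixed subgroup on `K / U`. -/
def NoBad (L K U : Subgroup M) : Prop :=
  ∀ A B : Subgroup M, U ≤ A → A ≤ K → A ≠ K → U ≤ B → B ≤ L → B ≤ centralizer (U : Set M) →
    (∀ b ∈ B, b * b = 1) → (∀ b ∈ B, b ∈ K → b ∈ U) →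
    (∀ b ∈ B, b ∉ U → ∀ k ∈ K, (k * b * k⁻¹ * b⁻¹ ∈ U ↔ k ∈ A)) →
    Nat.card K * Nat.card U ≤ Nat.card B * Nat.card B → False

/-- The elements of `K` conjugated into `L` by `g⁻¹`. -/
def meetConj (L K : Subgroup M) (g : M) : Subgroup M :=
  K ⊓ L.comap (MulAut.conj g⁻¹).toMonoidHom

theorem mem_meetConj {L K : Subgroup M} {g k : M} :
    k ∈ meetConj L K g ↔ k ∈ K ∧ g⁻¹ * k * g ∈ L := by
  simp [meetConj, mem_inf]

variable [Finite M] {L K U : Subgroup M}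

theorem comm_of_sq (hsq : ∀ k ∈ K, k * k = 1) {a b : M} (ha : a ∈ K) (hb : b ∈ K) : Commute a b := by
  have h1 := hsq _ (K.mul_mem ha hb)
  calc a * b = (a * b)⁻¹ := (inv_eq_of_mul_eq_one_right h1).symm
    _ = b * a := by rw [mul_inv_rev, inv_eq_of_mul_eq_one_right (hsq a ha),
        inv_eq_of_mul_eq_one_right (hsq b hb)]

/-- An involution fixes at least the square root of `K / U`. -/
theorem card_fixed_le (hsq : ∀ k ∈ K, k * k = 1) (hUK : U ≤ K) {A : Subgroup M} (hUA : U ≤ A)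
    (hAK : A ≤ K) {j : M} (hj2 : j * j = 1) (hjK : ∀ k ∈ K, j * k * j⁻¹ ∈ K)
    (hfix : ∀ k ∈ K, (k * j * k⁻¹ * j⁻¹ ∈ U ↔ k ∈ A)) :
    Nat.card K * Nat.card U ≤ Nat.card A * Nat.card A := by
  classical
  have hji : j⁻¹ = j := inv_eq_of_mul_eq_one_right hj2
  have hinv : ∀ k ∈ K, k⁻¹ = k := fun k hk => inv_eq_of_mul_eq_one_right (hsq k hk)
  have hc : ∀ k ∈ K, k * j * k⁻¹ * j⁻¹ = k * (j * k * j⁻¹) := fun k hk => by
    rw [hinv k hk]; group
  have hK : ∀ k ∈ K, k * j * k⁻¹ * j⁻¹ ∈ K := fun k hk => hc k hk ▸ K.mul_mem hk (hjK k hk)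
  have hA : ∀ k ∈ K, k * (j * k * j⁻¹) ∈ A := fun k hk => by
    have hcK := K.mul_mem hk (hjK k hk)
    rw [← hfix _ hcK, hc _ hcK]
    have e : j * (k * (j * k * j⁻¹)) * j⁻¹ = k * (j * k * j⁻¹) := by
      calc j * (k * (j * k * j⁻¹)) * j⁻¹ = (j * k * j⁻¹) * ((j * j) * k * (j * j)⁻¹) := by group
        _ = (j * k * j⁻¹) * k := by rw [hj2]; group
        _ = k * (j * k * j⁻¹) := (comm_of_sq hsq (hjK k hk) hk).eq
    rw [e, hsq _ hcK]
    exact U.one_mem
  haveI : (U.subgroupOf A).Normal := ⟨fun n hn a => by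
    rw [mem_subgroupOf] at hn ⊢
    rw [coe_mul, coe_mul, coe_inv, (comm_of_sq hsq (hAK a.2) (hUK hn)).eq, mul_inv_cancel_right]
    exact hn⟩
  let f : K →* A ⧸ U.subgroupOf A := MonoidHom.mk' (fun k => QuotientGroup.mk
    ⟨(k : M) * (j * k * j⁻¹), hA k k.2⟩) fun a b => by
      rw [← QuotientGroup.mk_mul]
      refine congrArg _ (Subtype.ext ?_)
      show (a : M) * b * (j * (a * b) * j⁻¹) = a * (j * a * j⁻¹) * (b * (j * b * j⁻¹))
      have e := (comm_of_sq hsq b.2 (hjK a a.2)).eq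
      calc (a : M) * b * (j * (a * b) * j⁻¹) = a * ((b : M) * (j * a * j⁻¹)) * (j * b * j⁻¹) := by group
        _ = _ := by rw [e]; group
  have hker : f.ker = A.subgroupOf K := by
    ext k
    rw [MonoidHom.mem_ker, mem_subgroupOf, ← hfix k k.2, hc k k.2]
    exact QuotientGroup.eq_one_iff _
  have h1 := f.ker.card_mul_index
  rw [Subgroup.index_ker, hker, Nat.card_congr (subgroupOfEquivOfLe hAK).toEquiv, Nat.mul_comm] at h1
  have h2 : Nat.card f.range ≤ Nat.card (A ⧸ U.subgroupOf A) := Subgroup.card_le_card_group _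
  have h3 : Nat.card (A ⧸ U.subgroupOf A) * Nat.card U = Nat.card A := by
    rw [← Nat.card_congr (subgroupOfEquivOfLe hUA).toEquiv]
    exact (card_eq_card_quotient_mul_card_subgroup _).symm
  rw [← h1]
  calc Nat.card f.range * Nat.card A * Nat.card U
      = (Nat.card f.range * Nat.card U) * Nat.card A := by ring
    _ ≤ (Nat.card (A ⧸ U.subgroupOf A) * Nat.card U) * Nat.card A := by gcongr
    _ = Nat.card A * Nat.card A := by rw [h3]

section Step

variable (hKL : K ≤ L) (hnorm : ∀ l ∈ L, ∀ k ∈ K, l * k * l⁻¹ ∈ K) (hsq : ∀ k ∈ K, k * k = 1)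
  {x : M} (hweak : ∀ g, Commute g x → (∀ k ∈ K, g * k * g⁻¹ ∈ L) → g ∈ L) (hxU : x ∈ U) (hUK : U ≤ K)
  (hbig : ∀ U' : Subgroup M, U < U' → U' ≤ K → centralizer (U' : Set M) ≤ L)

include hsq hweak hxU hUK hbig in
/-- The centralizer of an element of `(K / U)` lies in `L`. -/
theorem mem_of_conj_mem_coset {g k : M} (hg : ∀ u ∈ U, Commute g u) (hk : k ∈ K) (hkU : k ∉ U)
    (hgk : g * k * g⁻¹ * k⁻¹ ∈ U) : g ∈ L := by
  have hkd : ∀ u ∈ U, Commute k u := fun u hu => comm_of_sq hsq hk (hUK hu)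
  obtain ⟨U', hU'⟩ : ∃ U', extendBy U k (hsq _ hk) hkd = U' := ⟨_, rfl⟩
  have hlt : U < U' := lt_of_le_of_ne (hU' ▸ le_extendBy)
    (fun e => hkU (by rw [e, ← hU']; exact self_mem_extendBy))
  have hC := hbig U' hlt fun n hn => extendBy_induction (S := fun n => n ∈ K) hUK
    (fun p hp => K.mul_mem (hUK hp) hk) (hU'.symm ▸ hn)
  refine hweak g (hg x hxU) fun m hm => hC (mem_centralizer_iff.mpr fun n hn => ?_)
  have hmk : Commute (g * m * g⁻¹) (g * k * g⁻¹) := by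
    simpa using (comm_of_sq hsq hm hk).map (MulAut.conj g).toMonoidHom
  have hmu : ∀ p ∈ U, Commute (g * m * g⁻¹) p := fun p hp => by
    have := (comm_of_sq hsq hm (hUK hp)).map (MulAut.conj g).toMonoidHom
    simpa [(hg p hp).eq] using this
  refine (extendBy_induction (S := fun n => Commute (g * m * g⁻¹) n) hmu ?_ (hU'.symm ▸ hn)).eq.symm
  intro p hp
  refine (hmu p hp).mul_right ?_
  have h2 := (hmu _ hgk).inv_right.mul_right hmk
  rwa [show (g * k * g⁻¹ * k⁻¹)⁻¹ * (g * k * g⁻¹) = k by group] at h2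

include hnorm hsq hweak hxU hUK hbig in
/-- The shape of a pair of conjugates. -/
theorem pair_shape {g : M} (hg : ∀ u ∈ U, Commute g u) (hgL : g ∉ L) {w : M} (hw : w ∈ K)
    (hwU : w ∉ U) (hwL : g * w * g⁻¹ ∈ L) :
    g * w * g⁻¹ ∉ K ∧ ∀ k ∈ K,
      (k * (g * w * g⁻¹) * k⁻¹ * (g * w * g⁻¹)⁻¹ ∈ U ↔ k ∈ meetConj L K g) := by
  have hmeet : ∀ m ∈ K, m ∉ U → g * m * g⁻¹ ∉ K := by
    intro m hm hmU hgm
    refine hgL (hweak g (hg x hxU) fun k' hk' => ?_)
    refine hbig (extendBy U (g * m * g⁻¹) (hsq _ hgm) fun u hu => comm_of_sq hsq hgm (hUK hu))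
      (lt_of_le_of_ne le_extendBy fun e => hmU ?_) (fun n hn => extendBy_induction
        (S := fun n => n ∈ K) hUK (fun p hp => K.mul_mem (hUK hp) hgm) hn) ?_
    · have h1 : g * m * g⁻¹ ∈ U := by rw [e]; exact self_mem_extendBy
      have h2 := (hg _ h1).eq
      have h3 : g * m * g⁻¹ = m := mul_left_cancel (a := g) (by rw [h2]; group)
      exact h3 ▸ h1
    · refine mem_centralizer_iff.mpr fun n hn => ?_
      have hk'u : ∀ p ∈ U, Commute (g * k' * g⁻¹) p := fun p hp => by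
        have := (comm_of_sq hsq hk' (hUK hp)).map (MulAut.conj g).toMonoidHom
        simpa [(hg p hp).eq] using this
      refine (extendBy_induction (S := fun n => Commute (g * k' * g⁻¹) n) hk'u ?_ hn).eq.symm
      exact fun p hp => (hk'u p hp).mul_right (by
        simpa using (comm_of_sq hsq hk' hm).map (MulAut.conj g).toMonoidHom)
  refine ⟨hmeet w hw hwU, fun k hk => ⟨fun h => mem_meetConj.mpr ⟨hk, ?_⟩, fun h => ?_⟩⟩
  · refine mem_of_conj_mem_coset hsq hweak hxU hUK hbig (g := g⁻¹ * k * g) ?_ hw hwU ?_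
    · exact fun u hu => (((hg u hu).inv_left).mul_left (comm_of_sq hsq hk (hUK hu))).mul_left (hg u hu)
    · have h2 := (hg _ h).inv_left.eq
      rw [show g⁻¹ * k * g * w * (g⁻¹ * k * g)⁻¹ * w⁻¹
        = g⁻¹ * (k * (g * w * g⁻¹) * k⁻¹ * (g * w * g⁻¹)⁻¹) * g by group, h2, inv_mul_cancel_right]
      exact h
  · obtain ⟨-, hkL⟩ := mem_meetConj.mp h
    have e : k * (g * w * g⁻¹) * k⁻¹ * (g * w * g⁻¹)⁻¹
        = g * ((g⁻¹ * k * g) * w * (g⁻¹ * k * g)⁻¹ * w⁻¹) * g⁻¹ := by group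
    have hm : (g⁻¹ * k * g) * w * (g⁻¹ * k * g)⁻¹ * w⁻¹ ∈ K :=
      K.mul_mem (hnorm _ hkL w hw) (K.inv_mem hw)
    by_cases hmU : (g⁻¹ * k * g) * w * (g⁻¹ * k * g)⁻¹ * w⁻¹ ∈ U
    · rw [e, (hg _ hmU).eq, mul_inv_cancel_right]; exact hmU
    · refine absurd ?_ (hmeet _ hm hmU)
      rw [← e, show k * (g * w * g⁻¹) * k⁻¹ * (g * w * g⁻¹)⁻¹
        = k * ((g * w * g⁻¹) * k⁻¹ * (g * w * g⁻¹)⁻¹) by group]
      exact K.mul_mem hk (hnorm _ hwL _ (K.inv_mem hk))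

include hKL hnorm hsq hweak hxU hUK hbig in
/-- Outside `U` every element of `K` is rigid in `C(U)`. -/
theorem rigid_in_centralizer (hnb : NoBad L K U) {g v : M} (hg : ∀ u ∈ U, Commute g u) (hv : v ∈ K)
    (hvU : v ∉ U) (hj : g * v * g⁻¹ ∈ L) : g ∈ L := by
  classical
  by_contra hgL
  have hgL' : g⁻¹ ∉ L := fun h => hgL (by simpa using L.inv_mem h)
  have hg' : ∀ u ∈ U, Commute g⁻¹ u := fun u hu => (hg u hu).inv_left
  have shape := fun w hw hwU hwL =>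
    pair_shape hnorm hsq hweak hxU hUK hbig hg hgL (w := w) hw hwU hwL
  obtain ⟨hjK, hfix⟩ := shape v hv hvU hj
  have hUA : U ≤ meetConj L K g := fun u hu => mem_meetConj.mpr ⟨hUK hu, by
    rw [(hg' u hu).eq, inv_mul_cancel_right]; exact hKL (hUK hu)⟩
  have hAK : meetConj L K g ≤ K := inf_le_left
  have hjsq : g * v * g⁻¹ * (g * v * g⁻¹) = 1 := by
    rw [show g * v * g⁻¹ * (g * v * g⁻¹) = g * (v * v) * g⁻¹ by group, hsq v hv]; group
  have hne : meetConj L K g ≠ U := by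
    intro e
    have h1 := card_fixed_le hsq hUK hUA hAK hjsq (fun k hk => hnorm _ hj k hk) hfix
    rw [e] at h1
    have h2 : Nat.card K ≤ Nat.card U := Nat.le_of_mul_le_mul_right h1 Nat.card_pos
    exact hvU ((eq_of_le_of_card_ge hUK h2).symm ▸ hv)
  obtain ⟨a, ha, haU⟩ := SetLike.exists_of_lt (lt_of_le_of_ne hUA hne.symm)
  obtain ⟨haK, haL⟩ := mem_meetConj.mp ha
  obtain ⟨-, hfix'⟩ := pair_shape hnorm hsq hweak hxU hUK hbig hg' hgL' haK haU
    (by rw [inv_inv]; exact haL)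
  have hA' : meetConj L K g⁻¹ ≤ K := inf_le_left
  have hUA' : U ≤ meetConj L K g⁻¹ := fun u hu => mem_meetConj.mpr ⟨hUK hu, by
    rw [inv_inv, (hg u hu).eq, mul_inv_cancel_right]; exact hKL (hUK hu)⟩
  have hbsq : g⁻¹ * a * g⁻¹⁻¹ * (g⁻¹ * a * g⁻¹⁻¹) = 1 := by
    rw [show g⁻¹ * a * g⁻¹⁻¹ * (g⁻¹ * a * g⁻¹⁻¹) = g⁻¹ * (a * a) * g by group, hsq a haK]; group
  have hcard := card_fixed_le hsq hUK hUA' hA' hbsq
    (fun k hk => hnorm _ (by rw [inv_inv]; exact haL) k hk) hfix'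
  obtain ⟨B, hB⟩ : ∃ B, (meetConj L K g⁻¹).map (MulAut.conj g).toMonoidHom = B := ⟨_, rfl⟩
  have hBmem : ∀ b ∈ B, ∃ w ∈ K, g * w * g⁻¹ ∈ L ∧ g * w * g⁻¹ = b := by
    rw [← hB]
    rintro _ ⟨w, hw, rfl⟩
    obtain ⟨h1, h2⟩ := mem_meetConj.mp hw
    exact ⟨w, h1, by simpa using h2, rfl⟩
  have hBU : ∀ b ∈ B, b ∈ U ↔ ∃ w ∈ U, g * w * g⁻¹ = b := fun b _ =>
    ⟨fun h => ⟨b, h, by rw [(hg b h).eq, mul_inv_cancel_right]⟩,
      fun ⟨w, hw, e⟩ => by rw [← e, (hg w hw).eq, mul_inv_cancel_right]; exact hw⟩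
  refine hnb (meetConj L K g) B hUA hAK ?_ ?_ ?_ ?_ ?_ ?_ ?_ ?_
  · intro e
    refine hgL' (hweak g⁻¹ (hg' x hxU) fun k hk => ?_)
    rw [inv_inv]
    exact (mem_meetConj.mp (e.symm ▸ hk : k ∈ meetConj L K g)).2
  · intro u hu
    rw [← hB]
    exact ⟨u, hUA' hu, by simp [(hg u hu).eq]⟩
  · intro b hb
    obtain ⟨w, -, hwL, rfl⟩ := hBmem b hb
    exact hwL
  · intro b hb
    obtain ⟨w, hw, -, rfl⟩ := hBmem b hb
    refine mem_centralizer_iff.mpr fun u hu => ?_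
    have := (comm_of_sq hsq hw (hUK hu)).map (MulAut.conj g).toMonoidHom
    rw [MulEquiv.coe_toMonoidHom, MulAut.conj_apply, MulAut.conj_apply, (hg u hu).eq,
      mul_inv_cancel_right] at this
    exact this.eq.symm
  · intro b hb
    obtain ⟨w, hw, -, rfl⟩ := hBmem b hb
    rw [show g * w * g⁻¹ * (g * w * g⁻¹) = g * (w * w) * g⁻¹ by group, hsq w hw]; group
  · intro b hb hbK
    obtain ⟨w, hw, hwL, rfl⟩ := hBmem b hb
    by_contra hbU
    exact (shape w hw (fun h => hbU ((hBU _ hb).mpr ⟨w, h, rfl⟩)) hwL).1 hbK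
  · intro b hb hbU k hk
    obtain ⟨w, hw, hwL, rfl⟩ := hBmem b hb
    exact (shape w hw (fun h => hbU ((hBU _ hb).mpr ⟨w, h, rfl⟩)) hwL).2 k hk
  · rw [← hB, card_map_of_injective (MulAut.conj g).injective]
    exact hcard

include hKL hnorm hsq hweak hxU hUK hbig in
/-- The step from the overgroups of `U` to `U`. -/
theorem centralizer_le_weak_step (hnb : NoBad L K U) {a b : M} (haK : a ∈ K) (haU : a ∉ U)
    (hbK : b ∈ K) (hbU : b ∉ U)
    (hab : ∀ l ∈ L, l ∈ centralizer (U : Set M) → l * a * l⁻¹ * b⁻¹ ∉ U) :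
    centralizer (U : Set M) ≤ L := by
  classical
  obtain ⟨D, hD⟩ : ∃ D, centralizer (U : Set M) = D := ⟨_, rfl⟩
  have hKD : K ≤ D := hD ▸ fun k hk u hu => (comm_of_sq hsq (hUK hu) hk).eq
  have hcent : ∀ g ∈ D, ∀ u ∈ U, Commute g u := fun g hg u hu => by
    rw [← hD] at hg
    exact (mem_centralizer_iff.mp hg u hu).symm
  have : (U.subgroupOf D).Normal := ⟨fun n hn g => by
    rw [mem_subgroupOf] at hn ⊢
    rw [coe_mul, coe_mul, coe_inv, (hcent _ g.2 _ hn).eq, mul_inv_cancel_right]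
    exact hn⟩
  obtain ⟨π, hπs, hπ⟩ : ∃ π : D →* D ⧸ U.subgroupOf D, Function.Surjective π ∧
      ∀ a b : D, π a = π b ↔ (a : M)⁻¹ * b ∈ U :=
    ⟨QuotientGroup.mk' _, QuotientGroup.mk'_surjective _, fun a b => by
      rw [QuotientGroup.mk'_eq_mk']
      constructor
      · rintro ⟨z, hz, rfl⟩
        simpa [mem_subgroupOf] using hz
      · intro h
        exact ⟨a⁻¹ * b, by simpa [mem_subgroupOf] using h, by simp⟩⟩
  have hLmem : ∀ a : D, π a ∈ (L.subgroupOf D).map π → (a : M) ∈ L := by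
    rintro a ⟨b, hb, hab'⟩
    have h1 := hKL (hUK ((hπ b a).mp hab'))
    simpa using L.mul_mem (mem_subgroupOf.mp hb) h1
  have hNr : ∀ n (hn : n ∈ K), n ∉ U → Rigid ((L.subgroupOf D).map π) (π ⟨n, hKD hn⟩) := by
    intro n hn hnU g' hg'
    obtain ⟨g, rfl⟩ := hπs g'
    rw [← map_inv, ← map_mul, ← map_mul] at hg'
    exact ⟨g, mem_subgroupOf.mpr (rigid_in_centralizer hKL hnorm hsq hweak hxU hUK hbig hnb
      (hcent _ g.2) hn hnU (by simpa using hLmem _ hg')), rfl⟩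
  rw [hD] at hab ⊢
  have key := eq_top_of_two (L := (L.subgroupOf D).map π) (K := (K.subgroupOf D).map π)
    (map_mono fun a ha => mem_subgroupOf.mpr (hKL (mem_subgroupOf.mp ha))) ?_ ?_ ?_
    (a := π ⟨a, hKD haK⟩) (b := π ⟨b, hKD hbK⟩)
    ⟨_, mem_subgroupOf.mpr haK, rfl⟩ ⟨_, mem_subgroupOf.mpr hbK, rfl⟩
    (hNr a haK haU) (hNr b hbK hbU) ?_
  · intro g hg
    exact hLmem ⟨g, hg⟩ (by rw [key]; trivial)
  · rintro _ ⟨l, hl, rfl⟩ _ ⟨k, hk, rfl⟩
    exact ⟨l * k * l⁻¹, mem_subgroupOf.mpr (by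
      simpa using hnorm _ (mem_subgroupOf.mp hl) _ (mem_subgroupOf.mp hk)), by simp⟩
  · rintro _ ⟨k, hk, rfl⟩
    rw [← map_mul, ← map_one π]
    exact congrArg π (Subtype.ext (by simpa using hsq _ (mem_subgroupOf.mp hk)))
  · rintro _ ⟨k, hk, rfl⟩ hk1 g' hg'
    obtain ⟨g, rfl⟩ := hπs g'
    refine ⟨g, mem_subgroupOf.mpr ?_, rfl⟩
    have hkK : (k : M) ∈ K := mem_subgroupOf.mp hk
    have hkU : (k : M) ∉ U := fun h => hk1 (by
      rw [← map_one π, hπ]
      simpa using U.inv_mem h)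
    refine mem_of_conj_mem_coset hsq hweak hxU hUK hbig (hcent _ g.2) hkK hkU ?_
    have h' : π (k * g) = π (g * k) := by rw [map_mul, map_mul]; exact hg'.eq.symm
    have hz : ((k : M) * g)⁻¹ * ((g : M) * k) ∈ U := by simpa using (hπ _ _).mp h'
    have e : (g : M) * k * (g : M)⁻¹
        = (k : M) * ((g : M) * (((k : M) * g)⁻¹ * ((g : M) * k)) * (g : M)⁻¹) := by group
    rw [e, (hcent _ g.2 _ hz).eq, mul_inv_cancel_right,
      (comm_of_sq hsq hkK (hUK hz)).eq, mul_inv_cancel_right]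
    exact hz
  · intro g' hg'
    obtain ⟨g, rfl⟩ := hπs g'
    rw [← map_inv, ← map_mul, ← map_mul, hπ] at hg'
    simp only [coe_mul, coe_inv] at hg'
    have hgL : (g : M) ∈ L := by
      refine rigid_in_centralizer hKL hnorm hsq hweak hxU hUK hbig hnb (hcent _ g.2) haK haU ?_
      have := L.mul_mem (hKL hbK) (L.inv_mem (hKL (hUK hg')))
      simpa [mul_assoc] using this
    refine hab g hgL g.2 ?_
    have hu := U.inv_mem hg'
    rw [mul_inv_rev, inv_inv] at hu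
    rw [show (g : M) * a * (g : M)⁻¹ * b⁻¹ = b * (b⁻¹ * ((g : M) * a * (g : M)⁻¹)) * b⁻¹ by group,
      (comm_of_sq hsq hbK (hUK hu)).eq, mul_inv_cancel_right]
    exact hu

end Step

/-- **The centralizer of `x`.** -/
theorem centralizer_le_of_weak (hKL : K ≤ L) (hnorm : ∀ l ∈ L, ∀ k ∈ K, l * k * l⁻¹ ∈ K)
    (hsq : ∀ k ∈ K, k * k = 1) {x : M}
    (hweak : ∀ g, Commute g x → (∀ k ∈ K, g * k * g⁻¹ ∈ L) → g ∈ L)
    (hU : ∀ V : Subgroup M, V ≤ K → x ∈ V → centralizer (V : Set M) ≤ L ∨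
      (NoBad L K V ∧ ∃ a ∈ K, a ∉ V ∧ ∃ b ∈ K, b ∉ V ∧
        ∀ l ∈ L, l ∈ centralizer (V : Set M) → l * a * l⁻¹ * b⁻¹ ∉ V))
    {V : Subgroup M} (hVK : V ≤ K) (hxV : x ∈ V) : centralizer (V : Set M) ≤ L := by
  induction V using WellFoundedGT.induction with
  | ind V IH =>
    rcases hU V hVK hxV with h | ⟨hnb, a, haK, haV, b, hbK, hbV, hab⟩
    · exact h
    · exact centralizer_le_weak_step hKL hnorm hsq hweak hxV hVK
        (fun V' hlt hK => IH V' hlt hK (hlt.le hxV)) hnb haK haV hbK hbV hab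

end Cfsg.Agent.TwoClassClosed
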