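import Mathlib.GroupTheory.Sylow
import Mathlib.GroupTheory.Nilpotent
import Cfsg.Agent.Embedded.RankCore

/-!
An elementary substitute for Goldschmidt's theorem when the normal elementary abelian subgroup `K`
of `L` has two rigid classes.

`x` is rigid for `L` if `g * x * g⁻¹ ∈ L` implies `g ∈ L`.  If all centralizers of nontrivial
elements of `K` lie in `L` and two rigid elements of `K` are not conjugate, then `L = ⊤`: take a
2-subgroup `P` of `L` maximal subject to meeting `K` trivially, centralizing two such elements and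
having its normalizer outside `L`; the central involution of the dihedral group generated by one of
them and a conjugate of the other outside `L` enlarges `P`.
-/

set_option autoImplicit false

namespace Cfsg.Agent.TwoClassClosed

open Subgroup

variable {M : Type*} [Group M]

/-- `x` fixes only one coset of `L`. -/
def Rigid (L : Subgroup M) (x : M) : Prop := ∀ g : M, g * x * g⁻¹ ∈ L → g ∈ L

theorem Rigid.of_conj {L : Subgroup M} {x : M} (h : Rigid L x) {c : M}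
    (hc : c * x * c⁻¹ ∈ L) : Rigid L (c * x * c⁻¹) := fun g hg => by
  have h1 : g * c ∈ L := h _ (by
    rwa [show g * c * x * (g * c)⁻¹ = g * (c * x * c⁻¹) * g⁻¹ by group])
  simpa using L.mul_mem h1 (L.inv_mem (h c hc))

theorem Rigid.mem_of_commute {L : Subgroup M} {x g : M} (h : Rigid L x) (hx : x ∈ L)
    (hc : Commute g x) : g ∈ L :=
  h g (by rwa [hc.eq, mul_inv_cancel_right])

/-- `P` extended by an involution `d` centralizing it. -/
def extendBy (P : Subgroup M) (d : M) (hd : d * d = 1) (hc : ∀ p ∈ P, Commute d p) : Subgroup M where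
  carrier := {q | q ∈ P ∨ q * d ∈ P}
  one_mem' := Or.inl P.one_mem
  mul_mem' := by
    intro a b ha hb
    have hcb : Commute d b := by
      rcases hb with hb | hb
      · exact hc b hb
      · have := (hc _ hb).mul_right (Commute.refl d)
        rwa [mul_assoc b d d, hd, mul_one] at this
    rcases ha with ha | ha <;> rcases hb with hb | hb
    · exact Or.inl (P.mul_mem ha hb)
    · exact Or.inr (by simpa [mul_assoc] using P.mul_mem ha hb)
    · refine Or.inr ?_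
      have := P.mul_mem ha hb
      rwa [mul_assoc a d b, hcb.eq, ← mul_assoc a b d] at this
    · refine Or.inl ?_
      have := P.mul_mem ha hb
      rwa [mul_assoc a d (b * d), ← mul_assoc d b d, hcb.eq, mul_assoc b d d, hd, mul_one] at this
  inv_mem' := by
    intro a ha
    rcases ha with ha | ha
    · exact Or.inl (P.inv_mem ha)
    · refine Or.inr ?_
      have hca : Commute d a := by
        have := (hc _ ha).mul_right (Commute.refl d)
        rwa [mul_assoc a d d, hd, mul_one] at this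
      have := P.inv_mem ha
      rwa [mul_inv_rev, inv_eq_of_mul_eq_one_right hd, hca.inv_right.eq] at this

theorem le_extendBy {P : Subgroup M} {d : M} {hd : d * d = 1} {hc : ∀ p ∈ P, Commute d p} :
    P ≤ extendBy P d hd hc := fun _ h => Or.inl h

theorem self_mem_extendBy {P : Subgroup M} {d : M} {hd : d * d = 1} {hc : ∀ p ∈ P, Commute d p} :
    d ∈ extendBy P d hd hc := Or.inr (by rw [hd]; exact P.one_mem)

/-- A property closed under products holds on `extendBy P d` once it holds on `P` and at `d`. -/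
theorem extendBy_induction {P : Subgroup M} {d : M} {hd : d * d = 1}
    {hc : ∀ p ∈ P, Commute d p} {S : M → Prop} (hP : ∀ p ∈ P, S p) (hPd : ∀ p ∈ P, S (p * d))
    {q : M} (hq : q ∈ extendBy P d hd hc) : S q := by
  rcases hq with hq | hq
  · exact hP q hq
  · have := hPd _ hq
    rwa [mul_assoc, hd, mul_one] at this

theorem extendBy_isPGroup {P : Subgroup M} {d : M} {hd : d * d = 1} {hc : ∀ p ∈ P, Commute d p}
    (hP : IsPGroup 2 P) : IsPGroup 2 (extendBy P d hd hc) := by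
  rintro ⟨q, hq⟩
  revert hq
  intro hq
  have key : ∃ k, q ^ 2 ^ k = 1 := by
    refine extendBy_induction (S := fun q => ∃ k, q ^ 2 ^ k = 1) ?_ ?_ hq
    · intro p hp
      obtain ⟨k, hk⟩ := hP ⟨p, hp⟩
      exact ⟨k, by simpa using congrArg Subtype.val hk⟩
    · intro p hp
      obtain ⟨k, hk⟩ := hP ⟨p, hp⟩
      refine ⟨k + 1, ?_⟩
      have hk' : p ^ 2 ^ k = 1 := by simpa using congrArg Subtype.val hk
      rw [(hc p hp).symm.mul_pow, pow_succ, pow_mul, hk', one_pow, one_mul, Nat.mul_comm, pow_mul,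
        pow_two d, hd, one_pow]
  obtain ⟨k, hk⟩ := key
  exact ⟨k, Subtype.ext (by simpa using hk)⟩

section

variable [Finite M] {L : Subgroup M}

/-- A 2-subgroup of `C` through the rigid element `a` lies in `L`. -/
theorem twoSubgroup_le {Q : Subgroup M} (hQ : IsPGroup 2 Q) {a : M} (haQ : a ∈ Q) (haL : a ∈ L)
    (ha : Rigid L a) : Q ≤ L := by
  have h : Q ⊓ L = Q := Embedded.eq_of_normalizer_inf_le hQ inf_le_left (by
    rintro q ⟨hqQ, hqN⟩
    exact ⟨hqQ, ha q (((Subgroup.mem_normalizer_iff.mp hqN) a).mp ⟨haQ, haL⟩).2⟩)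
  exact h ▸ inf_le_right

/-- In a subgroup `C` containing the rigid `a ∈ L`, every involution has a conjugate in `L`. -/
theorem exists_conj_mem {C : Subgroup M} {a y : M} (haC : a ∈ C) (haL : a ∈ L) (ha : Rigid L a)
    (ha2 : a * a = 1) (hyC : y ∈ C) (hy2 : y * y = 1) : ∃ c ∈ C, c * y * c⁻¹ ∈ L := by
  have hp : ∀ z : C, z * z = 1 → IsPGroup 2 (zpowers z) := fun z hz w => by
    obtain ⟨n, hn⟩ := mem_zpowers_iff.mp w.2
    refine ⟨1, Subtype.ext ?_⟩
    simp only [pow_one, SubgroupClass.coe_pow, ← hn, OneMemClass.coe_one]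
    rw [← zpow_natCast, ← zpow_mul, mul_comm n, zpow_mul, zpow_natCast, pow_two, hz, one_zpow]
  obtain ⟨Q, hQ⟩ := (hp ⟨a, haC⟩ (Subtype.ext ha2)).exists_le_sylow
  obtain ⟨R, hR⟩ := (hp ⟨y, hyC⟩ (Subtype.ext hy2)).exists_le_sylow
  obtain ⟨c, hc⟩ := MulAction.exists_smul_eq C R Q
  refine ⟨c, c.2, twoSubgroup_le (Q := (Q : Subgroup C).map C.subtype) (Q.isPGroup'.map _)
    ⟨⟨a, haC⟩, hQ (mem_zpowers _), rfl⟩ haL ha ?_⟩
  refine ⟨c * ⟨y, hyC⟩ * c⁻¹, ?_, by simp⟩
  rw [← hc]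
  exact ⟨_, hR (mem_zpowers _), rfl⟩

/-- `P` is a bad subgroup. -/
def Bad (L K P : Subgroup M) : Prop :=
  IsPGroup 2 P ∧ P ≤ L ∧ (∀ p ∈ P, p ∈ K → p = 1) ∧
    (∃ g ∈ normalizer (P : Set M), g ∉ L) ∧
    ∃ a b, a ∈ K ∧ b ∈ K ∧ Rigid L a ∧ Rigid L b ∧ (∀ g, g * a * g⁻¹ ≠ b) ∧
      (∀ p ∈ P, Commute a p) ∧ (∀ p ∈ P, Commute b p)

/-- A bad subgroup is properly contained in a bigger one. -/
theorem bad_extend {K : Subgroup M} (hKL : K ≤ L) (hnorm : ∀ l ∈ L, ∀ k ∈ K, l * k * l⁻¹ ∈ K)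
    (hsq : ∀ k ∈ K, k * k = 1) (hC : ∀ k ∈ K, k ≠ 1 → ∀ g, Commute g k → g ∈ L)
    {P : Subgroup M} (hP : Bad L K P) : ∃ P', Bad L K P' ∧ P < P' := by
  classical
  obtain ⟨hP2, hPL, hPK, ⟨g, hgN, hgL⟩, a, b, haK, hbK, ha, hb, hab, haP, hbP⟩ := hP
  have hgP : ∀ p ∈ P, g⁻¹ * p * g ∈ P := fun p hp =>
    ((Subgroup.mem_normalizer_iff''.mp hgN) p).mp hp
  obtain ⟨y, hy⟩ : ∃ y, g * b * g⁻¹ = y := ⟨_, rfl⟩
  have hyL : y ∉ L := fun h => hgL (hb g (by rwa [hy]))
  have hy2 : y * y = 1 := by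
    rw [← hy, show g * b * g⁻¹ * (g * b * g⁻¹) = g * (b * b) * g⁻¹ by group, hsq b hbK]
    group
  have hyP : ∀ p ∈ P, Commute y p := fun p hp => by
    have := (hbP _ (hgP p hp)).map (MulAut.conj g).toMonoidHom
    rw [MulEquiv.coe_toMonoidHom, MulAut.conj_apply, MulAut.conj_apply, hy] at this
    rwa [show g * (g⁻¹ * p * g) * g⁻¹ = p by group] at this
  have ha2 : a * a = 1 := hsq a haK
  have hainv : a⁻¹ = a := inv_eq_of_mul_eq_one_right ha2
  have hyinv : y⁻¹ = y := inv_eq_of_mul_eq_one_right hy2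
  obtain ⟨h, hh⟩ : ∃ h, a * y = h := ⟨_, rfl⟩
  have hhP : ∀ p ∈ P, Commute h p := fun p hp => hh ▸ (haP p hp).mul_left (hyP p hp)
  have hinv : a * h * a⁻¹ = h⁻¹ := by
    rw [← hh, mul_inv_rev, hainv, hyinv, ← mul_assoc a a y, ha2, one_mul]
  have hpow : ∀ n : ℕ, a * (h ^ n)⁻¹ = h ^ n * a := fun n => by
    have h1 : a * h ^ n * a⁻¹ = (h ^ n)⁻¹ := by rw [← conj_pow, hinv, inv_pow]
    have h2 := congrArg (fun t => t⁻¹ * a) h1
    simpa [mul_assoc] using h2
  have hex : ∃ m : ℕ, 0 < m ∧ h ^ m ∈ P :=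
    ⟨orderOf h, orderOf_pos h, by rw [pow_orderOf_eq_one]; exact P.one_mem⟩
  obtain ⟨hm0, hmP⟩ := Nat.find_spec hex
  have hmin : ∀ i, 0 < i → i < Nat.find hex → h ^ i ∉ P := fun i h0 hi hP' =>
    Nat.find_min hex hi ⟨h0, hP'⟩
  revert hm0 hmP hmin
  generalize Nat.find hex = m
  intro hm0 hmP hmin
  have hconj : ∀ i : ℕ, h ^ i * a * (h ^ i)⁻¹ = h ^ (i + i) * a := fun i => by
    rw [mul_assoc, hpow, pow_add, mul_assoc]
  rcases Nat.even_or_odd m with ⟨i, hi⟩ | ⟨i, hi⟩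
  swap
  · exfalso
    have e1 : h ^ i * a * (h ^ i)⁻¹ = h ^ m * y := by
      rw [hconj, hi, ← two_mul, pow_succ, mul_assoc (h ^ (2 * i)) h y,
        show h * y = a by rw [← hh, mul_assoc, hy2, mul_one]]
    have e2 : g⁻¹ * h ^ i * a * (g⁻¹ * h ^ i)⁻¹ = g⁻¹ * h ^ m * g * b := by
      rw [show g⁻¹ * h ^ i * a * (g⁻¹ * h ^ i)⁻¹ = g⁻¹ * (h ^ i * a * (h ^ i)⁻¹) * g by group,
        e1, ← hy]
      group
    have hp' := hgP _ hmP
    have hw : g⁻¹ * h ^ i ∈ L := ha _ (e2 ▸ L.mul_mem (hPL hp') (hKL hbK))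
    have hK' : g⁻¹ * h ^ m * g * b ∈ K := e2 ▸ hnorm _ hw a haK
    have hone := hPK _ hp' ((mul_mem_cancel_right hbK).mp hK')
    exact hab _ (by rw [e2, hone, one_mul])
  have hi0 : 0 < i := by omega
  have hiP := hmin i hi0 (by omega)
  obtain ⟨d, hd⟩ : ∃ d, h ^ i = d := ⟨_, rfl⟩
  rw [hd] at hiP
  have e1 : d * a * d⁻¹ = h ^ m * a := by rw [← hd, hconj, hi]
  have hdL : d ∈ L := ha d (e1 ▸ L.mul_mem (hPL hmP) (hKL haK))
  have hp1 : h ^ m = 1 :=
    hPK _ hmP ((mul_mem_cancel_right haK).mp (e1 ▸ hnorm d hdL a haK))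
  have hd2 : d * d = 1 := by rw [← hd, ← pow_add, ← hi, hp1]
  have hda : Commute d a := by
    rw [hp1, one_mul] at e1
    exact mul_inv_eq_iff_eq_mul.mp e1
  have hdy : Commute d y := by
    have hdh : Commute d h := hd ▸ (Commute.refl h).pow_left i
    have := hda.mul_right hdh
    rwa [← hh, ← mul_assoc a a y, ha2, one_mul] at this
  have hdP : ∀ p ∈ P, Commute d p := fun p hp => hd ▸ (hhP p hp).pow_left i
  obtain ⟨P', hP'⟩ : ∃ P', extendBy P d hd2 hdP = P' := ⟨_, rfl⟩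
  have hcomm : ∀ {z : M}, (∀ p ∈ P, Commute z p) → Commute z d → ∀ q ∈ P', Commute z q :=
    fun {z} hzP hzd q hq => extendBy_induction (S := fun q => Commute z q) hzP
      (fun p hp => (hzP p hp).mul_right hzd) (hP'.symm ▸ hq)
  have haP' := hcomm haP hda.symm
  have hyP' := hcomm hyP hdy.symm
  obtain ⟨c, hcC, hcL⟩ := exists_conj_mem (L := L) (C := centralizer (P' : Set M))
    (fun q hq => (haP' q hq).eq.symm) (hKL haK) ha ha2
    (fun q hq => (hyP' q hq).eq.symm) hy2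
  have hcc : c * y * c⁻¹ = c * g * b * (c * g)⁻¹ := by rw [← hy]; group
  have hcg : c * g ∈ L := hb _ (hcc ▸ hcL)
  refine ⟨P', ⟨hP' ▸ extendBy_isPGroup hP2, ?_, ?_, ⟨y, ?_, hyL⟩, a, c * y * c⁻¹, haK,
    hcc ▸ hnorm _ hcg b hbK, ha, ?_, ?_, haP', ?_⟩, lt_of_le_of_ne (hP' ▸ le_extendBy) ?_⟩
  · intro q hq
    exact extendBy_induction (S := fun q => q ∈ L) hPL
      (fun p hp => L.mul_mem (hPL hp) hdL) (hP'.symm ▸ hq)
  · intro q hq hqK
    refine extendBy_induction (S := fun q => q ∈ K → q = 1) hPK ?_ (hP'.symm ▸ hq) hqK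
    intro p hp hpK
    by_contra hne
    exact hyL (hC _ hpK hne y ((hyP p hp).mul_right hdy.symm))
  · exact centralizer_le_normalizer (P' : Set M) (fun q hq => (hyP' q hq).eq.symm)
  · exact hcc ▸ hb.of_conj (hcc ▸ hcL)
  · intro k hk
    refine hab ((c * g)⁻¹ * k) ?_
    rw [show (c * g)⁻¹ * k * a * ((c * g)⁻¹ * k)⁻¹ = (c * g)⁻¹ * (k * a * k⁻¹) * (c * g) by group,
      hk, hcc]
    group
  · intro q hq
    have := (hyP' q hq).map (MulAut.conj c).toMonoidHom
    rw [MulEquiv.coe_toMonoidHom, MulAut.conj_apply, MulAut.conj_apply] at this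
    rwa [show c * q * c⁻¹ = q by
      rw [← Subgroup.mem_centralizer_iff.mp hcC q hq]; group] at this
  · intro e
    exact hiP (e ▸ hP' ▸ self_mem_extendBy)

/-- **Two rigid classes.** -/
theorem eq_top_of_two {K : Subgroup M} (hKL : K ≤ L)
    (hnorm : ∀ l ∈ L, ∀ k ∈ K, l * k * l⁻¹ ∈ K) (hsq : ∀ k ∈ K, k * k = 1)
    (hC : ∀ k ∈ K, k ≠ 1 → ∀ g, Commute g k → g ∈ L)
    {a b : M} (haK : a ∈ K) (hbK : b ∈ K) (ha : Rigid L a) (hb : Rigid L b)
    (hab : ∀ g, g * a * g⁻¹ ≠ b) : L = ⊤ := by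
  by_contra hne
  obtain ⟨g, -, hg⟩ := SetLike.exists_of_lt (lt_top_iff_ne_top.mpr hne)
  have hbot : Bad L K ⊥ := ⟨IsPGroup.of_bot, bot_le, fun p hp _ => mem_bot.mp hp,
    ⟨g, by rw [normalizer_eq_top]; trivial, hg⟩, a, b, haK, hbK, ha, hb, hab,
    fun p hp => by rw [mem_bot.mp hp]; exact Commute.one_right a,
    fun p hp => by rw [mem_bot.mp hp]; exact Commute.one_right b⟩
  obtain ⟨P, hP, hmax⟩ := (Set.toFinite {P : Subgroup M | Bad L K P}).exists_maximal ⟨⊥, hbot⟩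
  obtain ⟨P', hP', hlt⟩ := bad_extend hKL hnorm hsq hC hP
  exact hlt.not_ge (hmax hP' hlt.le)

end

end Cfsg.Agent.TwoClassClosed
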